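/-
The characteristic homomorphism of an extension trivial over the base: it is the restriction to the imperfection
module of the linear map attached to the derivation of any section (EGA 0_IV 20.4, 20.6).
-/
import Groth.Prelude.Def_Exal2
import Groth.Prelude.Def_Exal3
import Groth.Agent.Lib.Exal.Basic
import Mathlib.RingTheory.Smooth.Kaehler
import Mathlib.RingTheory.Smooth.Basic
import Mathlib.RingTheory.Kaehler.JacobiZariski

universe u v

open scoped TensorProduct
open KaehlerDifferential (D)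

namespace Groth.Agent.Exal3L

open _root_.Exal

attribute [local instance] opModule isCentralScalar_opModule

section Kaehler

variable {A : Type u} {B C : Type v} [CommRing A] [CommRing B] [CommRing C] [Algebra A B] [Algebra B C]

theorem tensor_kaehler_induction {P : C ⊗[B] Ω[B⁄A] → Prop} (h0 : P 0) (hadd : ∀ x y, P x → P y → P (x + y))
    (h : ∀ (c : C) (b : B), P (c ⊗ₜ D A B b)) (z : C ⊗[B] Ω[B⁄A]) : P z := by
  induction z with
  | zero => exact h0
  | add x y hx hy => exact hadd x y hx hy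
  | tmul c ω =>
    have hω : ω ∈ Submodule.span B (Set.range (D A B)) := by
      rw [KaehlerDifferential.span_range_derivation]; trivial
    induction hω using Submodule.span_induction generalizing c with
    | mem x hx => obtain ⟨b, rfl⟩ := hx; exact h c b
    | zero => rw [TensorProduct.tmul_zero]; exact h0
    | add x y _ _ hx hy => rw [TensorProduct.tmul_add]; exact hadd _ _ (hx c) (hy c)
    | smul b x _ hx => rw [← TensorProduct.smul_tmul]; exact hx _

end Kaehler

/-- A splitting over `A` of a `B`-extension: a section, with the corresponding projection onto the kernel module. -/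
structure Splitting (A : Type u) {B C L : Type v} [CommRing A] [CommRing B] [CommRing C] [Algebra A B] [Algebra B C]
    [AddCommGroup L] [Module C L] (X : Ext B C L) where
  s : C →+* X.E
  ℓ : X.E →+ L
  proj_s : ∀ c, X.proj (s c) = c
  ℓ_mul : ∀ x y, ℓ (x * y) = X.proj x • ℓ y + X.proj y • ℓ x
  decomp : ∀ x, s (X.proj x) + X.incl (ℓ x) = x
  ℓ_base : ∀ a : A, ℓ (algebraMap B X.E (algebraMap A B a)) = 0

section Main

variable {A : Type u} {B C L : Type v} [CommRing A] [CommRing B] [CommRing C] [Algebra A B] [Algebra B C] [Algebra A C]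
  [IsScalarTower A B C] [AddCommGroup L] [Module C L] {X : Ext B C L}

theorem ℓ_incl (S : Splitting A X) (z : L) : S.ℓ (X.incl z) = z := by
  have := S.decomp (X.incl z)
  rw [proj_incl, map_zero, zero_add] at this
  exact X.isExtension.incl_injective this

theorem nonempty_splitting (hX : X.IsTrivialOver A) : Nonempty (Splitting A X) := by
  obtain ⟨σ, hσ⟩ := hX
  let s : C →+* X.E := σ.toRingHom
  have hs : ∀ c, X.proj (s c) = c := hσ
  have hA : ∀ a : A, s (algebraMap A C a) = algebraMap B X.E (algebraMap A B a) := σ.commutes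
  have h0 : ∀ x, X.proj (x - s (X.proj x)) = 0 := fun x => by rw [map_sub, hs, sub_self]
  have hi : ∀ x, X.incl (X.kerLift _ (h0 x)) = x - s (X.proj x) := fun x => X.incl_kerLift _ _
  let ℓ : X.E →+ L := AddMonoidHom.mk' (fun x => X.kerLift _ (h0 x)) fun x y =>
    X.isExtension.incl_injective (by rw [map_add X.incl, hi, hi, hi, map_add, map_add]; ring)
  have hℓ : ∀ x, X.incl (ℓ x) = x - s (X.proj x) := hi
  refine ⟨⟨s, ℓ, hs, fun x y => X.isExtension.incl_injective ?_, fun x => by rw [hℓ, add_sub_cancel], fun a => ?_⟩⟩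
  · rw [map_add, ← X.isExtension.mul_incl x, ← X.isExtension.mul_incl y, hℓ, hℓ, hℓ, map_mul, map_mul]
    have h := incl_mul_incl X (ℓ x) (ℓ y)
    rw [hℓ, hℓ] at h
    linear_combination -h
  · apply X.isExtension.incl_injective
    rw [hℓ, map_zero, AlgHom.commutes, ← IsScalarTower.algebraMap_apply A B C, hA, sub_self]

variable (X) in
theorem baseChangeToMiddle_tmul (c : C) (b : B) :
    X.baseChangeToMiddle A (c ⊗ₜ D A B b) = c ⊗ₜ D A (X.CharCarrier A) (algebraMap B (X.CharCarrier A) b) := by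
  simp [Ext.baseChangeToMiddle, KaehlerDifferential.map_D]

variable (X) in
theorem proj_surjective_charCarrier : Function.Surjective (algebraMap (X.CharCarrier A) C) :=
  X.isExtension.proj_surjective

variable (X) in
theorem mapBaseChange_baseChangeToMiddle (t : C ⊗[B] Ω[B⁄A]) :
    KaehlerDifferential.mapBaseChange A (X.CharCarrier A) C (X.baseChangeToMiddle A t) =
      KaehlerDifferential.mapBaseChange A B C t := by
  induction t using tensor_kaehler_induction with
  | h0 => rw [map_zero, map_zero, map_zero]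
  | hadd x y hx hy => rw [map_add, map_add, map_add, hx, hy]
  | h c b =>
    rw [baseChangeToMiddle_tmul, KaehlerDifferential.mapBaseChange_tmul, KaehlerDifferential.mapBaseChange_tmul,
      KaehlerDifferential.map_D, KaehlerDifferential.map_D, ← IsScalarTower.algebraMap_apply]

variable (X) in
theorem exists_deltaL_eq (z : EGA41.imperfection A B C) :
    ∃ w : L, X.deltaL A w = X.baseChangeToMiddle A (z : C ⊗[B] Ω[B⁄A]) := by
  have h1 : X.baseChangeToMiddle A (z : C ⊗[B] Ω[B⁄A]) ∈
      (LinearMap.ker (KaehlerDifferential.mapBaseChange A (X.CharCarrier A) C)).restrictScalars (X.CharCarrier A) := by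
    rw [Submodule.restrictScalars_mem, LinearMap.mem_ker, mapBaseChange_baseChangeToMiddle]
    exact z.2
  rw [← KaehlerDifferential.range_kerCotangentToTensor A (X.CharCarrier A) C (proj_surjective_charCarrier X)] at h1
  obtain ⟨x, hx⟩ := h1
  obtain ⟨⟨x, hxk⟩, rfl⟩ := Ideal.toCotangent_surjective _ x
  obtain ⟨w, hw⟩ := (X.isExtension.exact x).1 hxk
  refine ⟨w, ?_⟩
  rw [← hx, KaehlerDifferential.kerCotangentToTensor_toCotangent]
  change (1 : C) ⊗ₜ[X.CharCarrier A] D A (X.CharCarrier A) (X.incl w) = _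
  rw [hw]

theorem exists_retraction (S : Splitting A X) :
    ∃ ρ : C ⊗[X.CharCarrier A] Ω[X.CharCarrier A⁄A] →+ L,
      ∀ (c : C) (x : X.CharCarrier A), ρ (c ⊗ₜ D A (X.CharCarrier A) x) = c • S.ℓ x := by
  let : Module (X.CharCarrier A) L := Module.compHom L (algebraMap (X.CharCarrier A) C)
  let : Module A L := Module.compHom L (algebraMap A C)
  have : IsScalarTower (X.CharCarrier A) C L := IsScalarTower.of_algebraMap_smul fun _ _ => rfl
  have : IsScalarTower A (X.CharCarrier A) L := IsScalarTower.of_algebraMap_smul fun a z => by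
    change algebraMap (X.CharCarrier A) C (algebraMap A (X.CharCarrier A) a) • z = algebraMap A C a • z
    rw [← IsScalarTower.algebraMap_apply]
  have key : ∀ (a : A) (x : X.E), S.ℓ (algebraMap B X.E (algebraMap A B a) * x) = algebraMap A C a • S.ℓ x :=
    fun a x => by
      rw [S.ℓ_mul, S.ℓ_base, smul_zero, add_zero, AlgHom.commutes, ← IsScalarTower.algebraMap_apply]
  let d : Derivation A (X.CharCarrier A) L := Derivation.mk'
    { toFun := fun x => S.ℓ x
      map_add' := fun x y => S.ℓ.map_add x y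
      map_smul' := fun a x => by
        exact (congrArg (fun y : X.CharCarrier A => S.ℓ y) (Algebra.smul_def a x)).trans (key a x) }
    (fun x y => S.ℓ_mul x y)
  refine ⟨(d.liftKaehlerDifferential.liftBaseChange C).toAddMonoidHom, fun c x => ?_⟩
  rw [LinearMap.toAddMonoidHom_coe, LinearMap.liftBaseChange_tmul, Derivation.liftKaehlerDifferential_comp_D]
  rfl

theorem exists_phi (S : Splitting A X) :
    ∃ φ : C ⊗[B] Ω[B⁄A] →ₗ[C] L, ∀ (c : C) (b : B), φ (c ⊗ₜ D A B b) = c • S.ℓ (algebraMap B X.E b) := by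
  let : Module B L := Module.compHom L (algebraMap B C)
  let : Module A L := Module.compHom L (algebraMap A C)
  have : IsScalarTower B C L := IsScalarTower.of_algebraMap_smul fun _ _ => rfl
  have : IsScalarTower A B L := IsScalarTower.of_algebraMap_smul fun a z => by
    change algebraMap B C (algebraMap A B a) • z = algebraMap A C a • z
    rw [← IsScalarTower.algebraMap_apply]
  let d : Derivation A B L := Derivation.mk'
    { toFun := fun b => S.ℓ (algebraMap B X.E b)
      map_add' := fun x y => by rw [map_add, map_add]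
      map_smul' := fun a b => by
        change S.ℓ (algebraMap B X.E (a • b)) = algebraMap A C a • S.ℓ (algebraMap B X.E b)
        rw [Algebra.smul_def, map_mul, S.ℓ_mul, S.ℓ_base, smul_zero, add_zero, AlgHom.commutes,
          ← IsScalarTower.algebraMap_apply] }
    (fun x y => by
      change S.ℓ (algebraMap B X.E (x * y)) = x • S.ℓ (algebraMap B X.E y) + y • S.ℓ (algebraMap B X.E x)
      rw [map_mul, S.ℓ_mul, AlgHom.commutes, AlgHom.commutes]
      rfl)
  refine ⟨d.liftKaehlerDifferential.liftBaseChange C, fun c b => ?_⟩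
  rw [LinearMap.liftBaseChange_tmul, Derivation.liftKaehlerDifferential_comp_D]
  rfl

/-- A characteristic homomorphism is the restriction of the linear map of any splitting. -/
theorem isCharHom_iff (S : Splitting A X) {φ : C ⊗[B] Ω[B⁄A] →ₗ[C] L}
    (hφ : ∀ (c : C) (b : B), φ (c ⊗ₜ D A B b) = c • S.ℓ (algebraMap B X.E b))
    (χ : EGA41.imperfection A B C →ₗ[C] L) : X.IsCharHom A χ ↔ ∀ z, χ z = φ z := by
  obtain ⟨ρ, hρ⟩ := exists_retraction S
  have h1 : ∀ z : L, ρ (X.deltaL A z) = z := fun z => by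
    change ρ ((1 : C) ⊗ₜ[X.CharCarrier A] D A (X.CharCarrier A) (X.incl z)) = z
    rw [hρ, one_smul, ℓ_incl]
  have h2 : ∀ t, ρ (X.baseChangeToMiddle A t) = φ t := fun t => by
    induction t using tensor_kaehler_induction with
    | h0 => rw [map_zero, map_zero, map_zero]
    | hadd x y hx hy => rw [map_add, map_add, map_add, hx, hy]
    | h c b => rw [baseChangeToMiddle_tmul, hρ, hφ]; rfl
  constructor
  · intro h z
    rw [← h1 (χ z), h z, h2]
  · intro h z
    obtain ⟨w, hw⟩ := exists_deltaL_eq X z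
    rw [h, ← h2, ← hw, h1]

theorem existsUnique_isCharHom (hX : X.IsTrivialOver A) :
    ∃! χ : EGA41.imperfection A B C →ₗ[C] L, X.IsCharHom A χ := by
  obtain ⟨S⟩ := nonempty_splitting hX
  obtain ⟨φ, hφ⟩ := exists_phi S
  exact ⟨φ.domRestrict _, (isCharHom_iff S hφ _).2 fun z => rfl,
    fun χ hχ => LinearMap.ext fun z => (isCharHom_iff S hφ χ).1 hχ z⟩

/-- If the maps of two splittings differ by a map factoring through `Ω_{C/A}`, the extensions are equivalent. -/
theorem nonempty_equiv_of_psi {Y : Ext B C L} (S : Splitting A X) (T : Splitting A Y)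
    (ψ : Ω[C⁄A] →ₗ[C] L)
    (h : ∀ b : B, ψ (D A C (algebraMap B C b)) = S.ℓ (algebraMap B X.E b) - T.ℓ (algebraMap B Y.E b)) :
    Nonempty (X.Equiv Y) := by
  have hδ : ∀ c d : C, ψ (D A C (c * d)) = c • ψ (D A C d) + d • ψ (D A C c) := fun c d => by
    rw [Derivation.leibniz, map_add, map_smul, map_smul]
  let f : X.E →+ Y.E :=
    AddMonoidHom.mk' (fun x => T.s (X.proj x) + Y.incl (S.ℓ x - ψ (D A C (X.proj x)))) fun x y => by
      rw [map_add X.proj, map_add, map_add, map_add, map_add, add_sub_add_comm, map_add]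
      abel
  have hf : ∀ x, f x = T.s (X.proj x) + Y.incl (S.ℓ x - ψ (D A C (X.proj x))) := fun x => rfl
  have hf1 : ∀ b : B, f (algebraMap B X.E b) = algebraMap B Y.E b := fun b => by
    rw [hf, AlgHom.commutes, h, sub_sub_cancel]
    conv_rhs => rw [← T.decomp (algebraMap B Y.E b), AlgHom.commutes]
  have hfmul : ∀ x y, f (x * y) = f x * f y := fun x y => by
    have h1 := incl_mul_incl Y (S.ℓ x - ψ (D A C (X.proj x))) (S.ℓ y - ψ (D A C (X.proj y)))
    have h2 : Y.incl (X.proj x • (S.ℓ y - ψ (D A C (X.proj y)))) =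
        T.s (X.proj x) * Y.incl (S.ℓ y - ψ (D A C (X.proj y))) := by
      rw [Y.isExtension.mul_incl, T.proj_s]
    have h3 : Y.incl (X.proj y • (S.ℓ x - ψ (D A C (X.proj x)))) =
        T.s (X.proj y) * Y.incl (S.ℓ x - ψ (D A C (X.proj x))) := by
      rw [Y.isExtension.mul_incl, T.proj_s]
    have h4 : S.ℓ (x * y) - ψ (D A C (X.proj (x * y))) =
        X.proj x • (S.ℓ y - ψ (D A C (X.proj y))) + X.proj y • (S.ℓ x - ψ (D A C (X.proj x))) := by
      rw [S.ℓ_mul, map_mul, hδ, smul_sub, smul_sub]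
      abel
    rw [hf, hf, hf, h4, map_add, h2, h3, map_mul X.proj, map_mul T.s]
    linear_combination -h1
  let g : X.E →ₐ[B] Y.E :=
    { toFun := f
      map_one' := by rw [← map_one (algebraMap B X.E), hf1, map_one]
      map_mul' := hfmul
      map_zero' := f.map_zero
      map_add' := f.map_add
      commutes' := hf1 }
  obtain ⟨e, -⟩ := nonempty_equiv_of_hom g
    (fun x => by
      change Y.proj (f x) = _
      rw [hf, map_add, T.proj_s, proj_incl, add_zero])
    (fun z => by
      change f (X.incl z) = _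
      rw [hf, proj_incl, map_zero, zero_add, ℓ_incl, map_zero, map_zero, sub_zero])
  exact ⟨e⟩

end Main

section Derivation

variable {A : Type u} {B C L : Type v} [CommRing A] [CommRing B] [CommRing C]
    [Algebra A B] [Algebra B C] [Algebra A C] [IsScalarTower A B C]
    [AddCommGroup L] [Module C L] [Module B L] [IsScalarTower B C L] [Module A L] [IsScalarTower A B L]

/-- The canonical splitting of the extension attached to a derivation. -/
theorem exists_splitting_ofDerivation (d : Derivation A B L) :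
    ∃ S : Splitting A (Ext.ofDerivation (C := C) d),
      ∀ b, S.ℓ (algebraMap B (Ext.ofDerivation (C := C) d).E b) = d b := by
  let X := Ext.ofDerivation (C := C) d
  have hb : ∀ b, TrivSqZeroExt.snd ((algebraMap B X.E b : X.E) : TrivSqZeroExt C L) = d b := fun b => by
    change TrivSqZeroExt.snd (TrivSqZeroExt.inl (algebraMap B C b) + TrivSqZeroExt.inr (d b) : TrivSqZeroExt C L) = _
    rw [TrivSqZeroExt.snd_add, TrivSqZeroExt.snd_inl, TrivSqZeroExt.snd_inr, zero_add]
  refine ⟨{
      s := (TrivSqZeroExt.inlHom C L : C →+* TrivSqZeroExt C L)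
      ℓ := ((TrivSqZeroExt.sndHom C L).toAddMonoidHom : TrivSqZeroExt C L →+ L)
      proj_s := fun c => rfl
      ℓ_mul := fun x y => ?_
      decomp := fun x => ?_
      ℓ_base := fun a => ?_ }, hb⟩
  · exact (TrivSqZeroExt.snd_mul _ _).trans (by rw [op_smul_eq_smul]; rfl)
  · exact TrivSqZeroExt.inl_fst_add_inr_snd_eq (x : TrivSqZeroExt C L)
  · exact (hb _).trans (d.map_algebraMap a)

end Derivation

section Classes

variable {A : Type u} {B C L : Type v} [CommRing A] [CommRing B] [CommRing C] [Algebra A B] [Algebra B C] [Algebra A C]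
  [IsScalarTower A B C] [AddCommGroup L] [Module C L]

/-- Under either hypothesis, a map vanishing on the imperfection module factors through `Ω_{C/A}`. -/
theorem exists_comp_mapBaseChange_eq
    (h : Module.Injective C L ∨ ∃ s : Ω[C⁄B] →ₗ[C] Ω[C⁄A], ∀ ω, KaehlerDifferential.map A B C C (s ω) = ω)
    (g : C ⊗[B] Ω[B⁄A] →ₗ[C] L) (hg : EGA41.imperfection A B C ≤ LinearMap.ker g) :
    ∃ ψ : Ω[C⁄A] →ₗ[C] L, ∀ t, ψ (KaehlerDifferential.mapBaseChange A B C t) = g t := by
  let m := KaehlerDifferential.mapBaseChange A B C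
  rcases h with h | ⟨s, hs⟩
  · obtain ⟨ψ, hψ⟩ := h.out ((LinearMap.ker m).liftQ m le_rfl)
      (LinearMap.ker_eq_bot.1 (Submodule.ker_liftQ_eq_bot _ _ _ le_rfl)) ((LinearMap.ker m).liftQ g hg)
    exact ⟨ψ, fun t => hψ (Submodule.Quotient.mk t)⟩
  · have hmem : ∀ ω, ω - s (KaehlerDifferential.map A B C C ω) ∈ LinearMap.range m := fun ω => by
      rw [KaehlerDifferential.range_mapBaseChange, LinearMap.mem_ker, map_sub, hs, sub_self]
    refine ⟨((LinearMap.ker m).liftQ g hg) ∘ₗ m.quotKerEquivRange.symm.toLinearMap ∘ₗ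
      (LinearMap.id - s ∘ₗ KaehlerDifferential.map A B C C).codRestrict _ hmem, fun t => ?_⟩
    have h0 : (LinearMap.id - s ∘ₗ KaehlerDifferential.map A B C C).codRestrict _ hmem (m t) =
        m.quotKerEquivRange (Submodule.Quotient.mk t) := by
      apply Subtype.ext
      rw [LinearMap.quotKerEquivRange_apply_mk]
      have h1 : KaehlerDifferential.map A B C C (m t) = 0 :=
        (KaehlerDifferential.exact_mapBaseChange_map A B C).apply_apply_eq_zero t
      simp [h1]
    rw [LinearMap.comp_apply, LinearMap.comp_apply, h0, LinearEquiv.coe_coe, LinearEquiv.symm_apply_apply]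
    rfl

theorem nonempty_equiv_of_isCharHom
    (h : Module.Injective C L ∨ ∃ s : Ω[C⁄B] →ₗ[C] Ω[C⁄A], ∀ ω, KaehlerDifferential.map A B C C (s ω) = ω)
    {X Y : Ext B C L} (hX : X.IsTrivialOver A) (hY : Y.IsTrivialOver A)
    {χ : EGA41.imperfection A B C →ₗ[C] L} (hXχ : X.IsCharHom A χ) (hYχ : Y.IsCharHom A χ) :
    Nonempty (X.Equiv Y) := by
  obtain ⟨S⟩ := nonempty_splitting hX
  obtain ⟨T⟩ := nonempty_splitting hY
  obtain ⟨φ, hφ⟩ := exists_phi S
  obtain ⟨φ', hφ'⟩ := exists_phi T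
  obtain ⟨ψ, hψ⟩ := exists_comp_mapBaseChange_eq h (φ - φ') fun z hz => by
    rw [LinearMap.mem_ker, LinearMap.sub_apply, ← (isCharHom_iff S hφ χ).1 hXχ ⟨z, hz⟩,
      ← (isCharHom_iff T hφ' χ).1 hYχ ⟨z, hz⟩, sub_self]
  refine nonempty_equiv_of_psi S T ψ fun b => ?_
  have := hψ (1 ⊗ₜ D A B b)
  rw [KaehlerDifferential.mapBaseChange_tmul, one_smul, KaehlerDifferential.map_D, LinearMap.sub_apply, hφ,
    hφ', one_smul, one_smul] at this
  exact this

theorem exists_isCharHom
    (h : Module.Injective C L ∨ ∃ r : C ⊗[B] Ω[B⁄A] →ₗ[C] ↥(EGA41.imperfection A B C),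
      ∀ z : ↥(EGA41.imperfection A B C), r z = z)
    (χ : EGA41.imperfection A B C →ₗ[C] L) : ∃ X : Ext B C L, X.IsTrivialOver A ∧ X.IsCharHom A χ := by
  obtain ⟨φ, hφ⟩ : ∃ φ : C ⊗[B] Ω[B⁄A] →ₗ[C] L, ∀ z : EGA41.imperfection A B C, φ z = χ z := by
    rcases h with h | ⟨r, hr⟩
    · exact h.out (X := ↥(EGA41.imperfection A B C)) (Y := C ⊗[B] Ω[B⁄A]) (EGA41.imperfection A B C).subtype (Submodule.injective_subtype _) χ
    · exact ⟨χ ∘ₗ r, fun z => by rw [LinearMap.comp_apply, hr]⟩
  let : Module B L := Module.compHom L (algebraMap B C)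
  let : Module A L := Module.compHom L (algebraMap A C)
  have : IsScalarTower B C L := IsScalarTower.of_algebraMap_smul fun _ _ => rfl
  have : IsScalarTower A B L := IsScalarTower.of_algebraMap_smul fun a z => by
    change algebraMap B C (algebraMap A B a) • z = algebraMap A C a • z
    rw [← IsScalarTower.algebraMap_apply]
  let d : Derivation A B L :=
    ((φ.restrictScalars B).comp (TensorProduct.mk B C Ω[B⁄A] 1)).compDer (D A B)
  obtain ⟨S, hS⟩ := exists_splitting_ofDerivation (C := C) d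
  refine ⟨Ext.ofDerivation (C := C) d, ofDerivation_isTrivialOver d, (isCharHom_iff S (φ := φ) (fun c b => ?_) χ).2
    fun z => (hφ z).symm⟩
  rw [hS]
  change φ (c ⊗ₜ D A B b) = c • φ ((1 : C) ⊗ₜ D A B b)
  rw [← map_smul, TensorProduct.smul_tmul', smul_eq_mul, mul_one]

theorem isTrivialOver_of_formallySmooth [Algebra.FormallySmooth A C] (X : Ext B C L) : X.IsTrivialOver A := by
  let p : X.RestrictCarrier A →ₐ[A] C := (X.restrictBase A).proj
  obtain ⟨σ, hσ⟩ := Algebra.FormallySmooth.exists_lift (R := A) (A := C) (RingHom.ker p) ⟨2, by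
      rw [Ideal.zero_eq_bot, pow_two, eq_bot_iff, Ideal.mul_le]
      intro x hx y hy
      obtain ⟨z, rfl⟩ := (X.isExtension.exact x).1 hx
      obtain ⟨w, rfl⟩ := (X.isExtension.exact y).1 hy
      exact incl_mul_incl X z w⟩
    (Ideal.quotientKerAlgEquivOfSurjective (f := p) X.isExtension.proj_surjective).symm.toAlgHom
  refine ⟨σ, fun c => ?_⟩
  have := congrArg (Ideal.quotientKerAlgEquivOfSurjective (f := p) X.isExtension.proj_surjective) (AlgHom.congr_fun hσ c)
  simp at this
  exact this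

theorem exists_section_map [Module.Projective C Ω[C⁄B]] :
    ∃ s : Ω[C⁄B] →ₗ[C] Ω[C⁄A], ∀ ω, KaehlerDifferential.map A B C C (s ω) = ω := by
  obtain ⟨s, hs⟩ := Module.projective_lifting_property (KaehlerDifferential.map A B C C) LinearMap.id
    (KaehlerDifferential.map_surjective A B C)
  exact ⟨s, fun ω => LinearMap.congr_fun hs ω⟩

theorem exists_retraction_imperfection [Module.Projective C Ω[C⁄A]]
    (s : Ω[C⁄B] →ₗ[C] Ω[C⁄A]) (hs : ∀ ω, KaehlerDifferential.map A B C C (s ω) = ω) :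
    ∃ r : C ⊗[B] Ω[B⁄A] →ₗ[C] ↥(EGA41.imperfection A B C), ∀ z : ↥(EGA41.imperfection A B C), r z = z := by
  let m := KaehlerDifferential.mapBaseChange A B C
  have hmem : ∀ ω, (LinearMap.id - s ∘ₗ KaehlerDifferential.map A B C C : Ω[C⁄A] →ₗ[C] Ω[C⁄A]) ω ∈ LinearMap.range m :=
    fun ω => by
      rw [KaehlerDifferential.range_mapBaseChange, LinearMap.mem_ker, LinearMap.sub_apply, map_sub,
        LinearMap.id_apply, LinearMap.comp_apply, hs, sub_self]
  have : Module.Projective C (LinearMap.range m) :=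
    Module.Projective.of_split (LinearMap.range m).subtype
      ((LinearMap.id - s ∘ₗ KaehlerDifferential.map A B C C).codRestrict _ hmem) (by
        refine LinearMap.ext fun ω => Subtype.ext ?_
        have h1 : KaehlerDifferential.map A B C C ω = 0 := by
          obtain ⟨t, ht⟩ := ω.2
          rw [← ht]
          exact (KaehlerDifferential.exact_mapBaseChange_map A B C).apply_apply_eq_zero t
        simp [h1])
  obtain ⟨σ, hσ⟩ := Module.projective_lifting_property m.rangeRestrict LinearMap.id m.surjective_rangeRestrict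
  refine ⟨(LinearMap.id - σ ∘ₗ m.rangeRestrict : C ⊗[B] Ω[B⁄A] →ₗ[C] C ⊗[B] Ω[B⁄A]).codRestrict _ fun t => ?_,
    fun z => Subtype.ext ?_⟩
  · rw [EGA41.imperfection, LinearMap.mem_ker]
    have := congrArg Subtype.val (LinearMap.congr_fun hσ (m.rangeRestrict t))
    simp only [LinearMap.comp_apply, LinearMap.id_apply, LinearMap.codRestrict_apply] at this
    rw [LinearMap.sub_apply, map_sub, LinearMap.id_apply, LinearMap.comp_apply]
    exact sub_eq_zero.2 this.symm
  · have h0 : m.rangeRestrict (z : C ⊗[B] Ω[B⁄A]) = 0 := Subtype.ext z.2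
    simp [h0]

end Classes

section Infinitesimal

variable {A : Type u} {B : Type v} [CommRing A] [CommRing B] [Algebra A B] (K : Ideal B)

theorem one_tmul_D_mem_imperfection {x : B} (hx : x ∈ K) :
    (1 : B ⧸ K) ⊗ₜ D A B x ∈ EGA41.imperfection A B (B ⧸ K) := by
  rw [EGA41.imperfection, LinearMap.mem_ker, KaehlerDifferential.mapBaseChange_tmul, KaehlerDifferential.map_D,
    Ideal.Quotient.algebraMap_eq, Ideal.Quotient.eq_zero_iff_mem.2 hx, map_zero, smul_zero]

theorem one_tmul_D_eq_zero_of_mem_sq {x : B} (hx : x ∈ K ^ 2) : (1 : B ⧸ K) ⊗ₜ[B] D A B x = 0 := by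
  have h0 : ∀ a ∈ K, ∀ ω : Ω[B⁄A], (1 : B ⧸ K) ⊗ₜ[B] (a • ω) = 0 := fun a ha ω => by
    rw [← TensorProduct.smul_tmul, Algebra.smul_def, mul_one, Ideal.Quotient.algebraMap_eq,
      Ideal.Quotient.eq_zero_iff_mem.2 ha, TensorProduct.zero_tmul]
  rw [pow_two] at hx
  induction hx using Submodule.mul_induction_on' with
  | mem_mul_mem a ha b hb => rw [Derivation.leibniz, TensorProduct.tmul_add, h0 a ha, h0 b hb, add_zero]
  | add a _ b _ ha hb => rw [map_add, TensorProduct.tmul_add, ha, hb, add_zero]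

theorem exists_one_tmul_D_eq {z : (B ⧸ K) ⊗[B] Ω[B⁄A]} (hz : z ∈ EGA41.imperfection A B (B ⧸ K)) :
    ∃ x, ∃ _ : x ∈ K, z = 1 ⊗ₜ D A B x := by
  have hs : Function.Surjective (algebraMap B (B ⧸ K)) := Ideal.Quotient.mk_surjective
  have h1 : z ∈ (LinearMap.ker (KaehlerDifferential.mapBaseChange A B (B ⧸ K))).restrictScalars B := hz
  rw [← KaehlerDifferential.range_kerCotangentToTensor A B (B ⧸ K) hs] at h1
  obtain ⟨x, hx⟩ := h1
  obtain ⟨⟨x, hxk⟩, rfl⟩ := Ideal.toCotangent_surjective _ x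
  rw [RingHom.mem_ker, Ideal.Quotient.algebraMap_eq, Ideal.Quotient.eq_zero_iff_mem] at hxk
  exact ⟨x, hxk, hx.symm⟩

variable (S : Splitting A (Ext.infinitesimal K)) {φ : (B ⧸ K) ⊗[B] Ω[B⁄A] →ₗ[B ⧸ K] K.Cotangent}

theorem phi_one_tmul_D
    (hφ : ∀ (c : B ⧸ K) (b : B), φ (c ⊗ₜ D A B b) = c • S.ℓ (algebraMap B (Ext.infinitesimal K).E b))
    {x : B} (hx : x ∈ K) : φ (1 ⊗ₜ D A B x) = K.toCotangent ⟨x, hx⟩ := by
  rw [hφ, one_smul]
  have h : algebraMap B (Ext.infinitesimal K).E x = (Ext.infinitesimal K).incl (K.toCotangent ⟨x, hx⟩) :=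
    (Ideal.toCotangent_to_quotient_square K ⟨x, hx⟩).symm
  rw [h]
  exact ℓ_incl S _

theorem injOn_phi
    (hφ : ∀ (c : B ⧸ K) (b : B), φ (c ⊗ₜ D A B b) = c • S.ℓ (algebraMap B (Ext.infinitesimal K).E b))
    {z : (B ⧸ K) ⊗[B] Ω[B⁄A]} (hz : z ∈ EGA41.imperfection A B (B ⧸ K)) (h : φ z = 0) : z = 0 := by
  obtain ⟨x, hx, rfl⟩ := exists_one_tmul_D_eq K hz
  rw [phi_one_tmul_D K S hφ hx, Ideal.toCotangent_eq_zero] at h
  exact one_tmul_D_eq_zero_of_mem_sq K h

theorem bijective_of_isCharHom (hK : (Ext.infinitesimal K).IsTrivialOver A)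
    (χ : EGA41.imperfection A B (B ⧸ K) →ₗ[B ⧸ K] K.Cotangent)
    (hχ : (Ext.infinitesimal K).IsCharHom A χ) : Function.Bijective χ := by
  obtain ⟨S⟩ := nonempty_splitting hK
  obtain ⟨φ, hφ⟩ := exists_phi S
  have h := (isCharHom_iff S hφ χ).1 hχ
  refine ⟨fun z z' hz => Subtype.ext (sub_eq_zero.1 (injOn_phi K S hφ (sub_mem z.2 z'.2)
    (by rw [map_sub, ← h z, ← h z', hz, sub_self]))), fun w => ?_⟩
  obtain ⟨⟨x, hx⟩, rfl⟩ := K.toCotangent_surjective w
  exact ⟨⟨_, one_tmul_D_mem_imperfection K hx⟩, by rw [h]; exact phi_one_tmul_D K S hφ hx⟩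

end Infinitesimal

section Triangle

variable {Λ : Type u} {A B : Type v} [CommRing Λ] [CommRing A] [CommRing B] [Algebra Λ A] [Algebra Λ B]
  [Algebra A B] [IsScalarTower Λ A B] (K : Ideal B)

/-- `C ⊗_A Ω_{A/Λ} → C ⊗_B Ω_{B/Λ}` for `C = B ⧸ K`, in the form used by the statements. -/
noncomputable def toUpper :
    (B ⧸ K) ⊗[A] Ω[A⁄Λ] →ₗ[B ⧸ K] (B ⧸ K) ⊗[B] Ω[B⁄Λ] :=
  (KaehlerDifferential.mapBaseChange Λ A B).baseChange (B ⧸ K) ∘ₗ
    (TensorProduct.AlgebraTensorModule.cancelBaseChange A B (B ⧸ K) (B ⧸ K) Ω[A⁄Λ]).symm.toLinearMap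

theorem toUpper_apply (t : (B ⧸ K) ⊗[A] Ω[A⁄Λ]) :
    toUpper K t = (KaehlerDifferential.mapBaseChange Λ A B).baseChange (B ⧸ K)
      ((TensorProduct.AlgebraTensorModule.cancelBaseChange A B (B ⧸ K) (B ⧸ K) Ω[A⁄Λ]).symm t) :=
  rfl

theorem toUpper_tmul (c : B ⧸ K) (a : A) :
    toUpper (Λ := Λ) K (c ⊗ₜ D Λ A a) = c ⊗ₜ D Λ B (algebraMap A B a) := by
  rw [toUpper_apply, TensorProduct.AlgebraTensorModule.cancelBaseChange_symm_tmul, LinearMap.baseChange_tmul,
    KaehlerDifferential.mapBaseChange_tmul, one_smul, KaehlerDifferential.map_D]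

theorem mapBaseChange_toUpper (t : (B ⧸ K) ⊗[A] Ω[A⁄Λ]) :
    KaehlerDifferential.mapBaseChange Λ B (B ⧸ K) (toUpper K t) =
      KaehlerDifferential.mapBaseChange Λ A (B ⧸ K) t := by
  induction t using tensor_kaehler_induction with
  | h0 => rw [map_zero, map_zero, map_zero]
  | hadd x y hx hy => rw [map_add, map_add, map_add, hx, hy]
  | h c a =>
    rw [toUpper_tmul, KaehlerDifferential.mapBaseChange_tmul, KaehlerDifferential.mapBaseChange_tmul,
      KaehlerDifferential.map_D, KaehlerDifferential.map_D, ← IsScalarTower.algebraMap_apply]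

theorem exists_phi_toUpper (htriv : ((Ext.infinitesimal K).restrictBase A).IsTrivialOver Λ)
    (χ : EGA41.imperfection Λ A (B ⧸ K) →ₗ[B ⧸ K] K.Cotangent)
    (hχ : ((Ext.infinitesimal K).restrictBase A).IsCharHom Λ χ) :
    ∃ (S : Splitting Λ (Ext.infinitesimal K)) (φ : (B ⧸ K) ⊗[B] Ω[B⁄Λ] →ₗ[B ⧸ K] K.Cotangent),
      (∀ (c : B ⧸ K) (b : B), φ (c ⊗ₜ D Λ B b) = c • S.ℓ (algebraMap B (Ext.infinitesimal K).E b)) ∧
      ∀ z : EGA41.imperfection Λ A (B ⧸ K), χ z = φ (toUpper K (z : (B ⧸ K) ⊗[A] Ω[A⁄Λ])) := by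
  obtain ⟨T⟩ := nonempty_splitting htriv
  have hb : ∀ a : A, algebraMap A ((Ext.infinitesimal K).restrictBase A).E a =
      (algebraMap B (Ext.infinitesimal K).E (algebraMap A B a) : (Ext.infinitesimal K).E) := fun a => rfl
  let S : Splitting Λ (Ext.infinitesimal K) :=
    { s := T.s
      ℓ := T.ℓ
      proj_s := T.proj_s
      ℓ_mul := T.ℓ_mul
      decomp := T.decomp
      ℓ_base := fun l => by
        rw [IsScalarTower.algebraMap_apply Λ A B, ← hb]
        exact T.ℓ_base l }
  obtain ⟨φ, hφ⟩ := exists_phi S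
  refine ⟨S, φ, hφ, fun z => (isCharHom_iff T (φ := φ ∘ₗ toUpper K) (fun c a => ?_) χ).1 hχ z⟩
  rw [LinearMap.comp_apply, toUpper_tmul, hφ, ← hb]
  rfl

theorem exists_toUpper_eq_iff {x : B} (hx : x ∈ K) :
    (∃ z ∈ EGA41.imperfection Λ A (B ⧸ K), toUpper K z = 1 ⊗ₜ D Λ B x) ↔
      (1 : B ⧸ K) ⊗ₜ[B] D A B x = 0 := by
  have hex : Function.Exact ((KaehlerDifferential.mapBaseChange Λ A B).lTensor (B ⧸ K))
      ((KaehlerDifferential.map Λ A B B).lTensor (B ⧸ K)) :=
    lTensor_exact _ (KaehlerDifferential.exact_mapBaseChange_map Λ A B) (KaehlerDifferential.map_surjective Λ A B)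
  have h1 : ((KaehlerDifferential.map Λ A B B).lTensor (B ⧸ K)) (1 ⊗ₜ D Λ B x) = 1 ⊗ₜ D A B x := by
    rw [LinearMap.lTensor_tmul, KaehlerDifferential.map_D, Algebra.algebraMap_self_apply]
  constructor
  · rintro ⟨z, -, hz⟩
    rw [← h1, ← hz, toUpper_apply, LinearMap.baseChange_eq_ltensor]
    exact hex.apply_apply_eq_zero _
  · intro h
    rw [← h1] at h
    obtain ⟨t, ht⟩ := (hex _).1 h
    refine ⟨TensorProduct.AlgebraTensorModule.cancelBaseChange A B (B ⧸ K) (B ⧸ K) Ω[A⁄Λ] t, ?_, ?_⟩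
    · rw [EGA41.imperfection, LinearMap.mem_ker, ← mapBaseChange_toUpper, toUpper_apply,
        LinearEquiv.symm_apply_apply, LinearMap.baseChange_eq_ltensor, ht]
      exact one_tmul_D_mem_imperfection K hx
    · rw [toUpper_apply, LinearEquiv.symm_apply_apply, LinearMap.baseChange_eq_ltensor, ht]

theorem exists_leftInverse_mapBaseChange [Algebra.FormallySmooth A B] :
    ∃ r : Ω[B⁄Λ] →ₗ[B] B ⊗[A] Ω[A⁄Λ], ∀ t, r (KaehlerDifferential.mapBaseChange Λ A B t) = t := by
  have hinj : Function.Injective (KaehlerDifferential.mapBaseChange Λ A B) := by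
    rw [injective_iff_map_eq_zero]
    intro t ht
    obtain ⟨h, rfl⟩ := (Algebra.H1Cotangent.exact_δ_mapBaseChange Λ A B t).1 ht
    rw [Subsingleton.elim h 0, map_zero]
  obtain ⟨s, hs⟩ := exists_section_map (A := Λ) (B := A) (C := B)
  have hmem : ∀ ω, (LinearMap.id - s ∘ₗ KaehlerDifferential.map Λ A B B : Ω[B⁄Λ] →ₗ[B] Ω[B⁄Λ]) ω ∈
      LinearMap.range (KaehlerDifferential.mapBaseChange Λ A B) := fun ω => by
    rw [KaehlerDifferential.range_mapBaseChange, LinearMap.mem_ker, LinearMap.sub_apply, map_sub,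
      LinearMap.id_apply, LinearMap.comp_apply, hs, sub_self]
  refine ⟨(LinearEquiv.ofInjective _ hinj).symm.toLinearMap ∘ₗ
    (LinearMap.id - s ∘ₗ KaehlerDifferential.map Λ A B B).codRestrict _ hmem, fun t => ?_⟩
  rw [LinearMap.comp_apply, LinearEquiv.coe_coe, LinearEquiv.symm_apply_eq]
  apply Subtype.ext
  have h1 := (KaehlerDifferential.exact_mapBaseChange_map Λ A B).apply_apply_eq_zero t
  simp [h1]

end Triangle

end Groth.Agent.Exal3L
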